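import Cfsg.Agent.Fusion91.Mathieu.DataM22
import Cfsg.Agent.Fusion91.Mathieu.OkTab

set_option autoImplicit false

/-! An invariant of the cosets of the Frattini subgroup that only uses the group law of a
Sylow 2-subgroup of M22. -/

namespace Cfsg.Agent.McLFus

open Cfsg Cfsg.Agent Cfsg.Agent.Fusion91.Mathieu

variable (C : Cert)

/-- The `m`-th element has order dividing four. -/
def fourOne (m : ℕ) : Bool :=
  (List.range 24).all fun i => dig (C.e m) (dig (C.e m) (dig (C.e m) (dig (C.e m) i))) == i

/-- The `m`-th and the `k`-th element commute. -/
def commB (m k : ℕ) : Bool :=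
  (List.range 24).all fun i => dig (C.e m) (dig (C.e k) i) == dig (C.e k) (dig (C.e m) i)

/-- Centraliser of order eight, order dividing four. -/
def typeB (m : ℕ) : Bool :=
  fourOne C m && ((List.range C.n).map fun k => if commB C m k then 1 else 0).sum == 8

/-- Elements of order above four fill label seven, those of type B the labels three and five. -/
def checkTypes (a b c : ℕ) : Bool :=
  ((List.range C.n).all fun m =>
    (fourOne C m || C.l m == 7) && (!typeB C m || C.l m == 3 || C.l m == 5)) &&
  (decide (a < C.n) && !fourOne C a && C.l a == 7) &&
  (decide (b < C.n) && typeB C b && C.l b == 3) &&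
  (decide (c < C.n) && typeB C c && C.l c == 5)

theorem checkTypesM22 : checkTypes certM22 11 4 5 = true := by decide +kernel

end Cfsg.Agent.McLFus
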