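import Cfsg.Agent.McLFus.Sound
import Cfsg.Agent.Fusion91.SimpleFinal
import Cfsg.Agent.Fusion91.Mathieu.CertM22
import Cfsg.Agent.Fusion91.Mathieu.Orders
import Cfsg.Agent.Lib.Leech.Simplicity
import Cfsg.Agent.Lib.Leech.Normalisers

set_option autoImplicit false

/-! The 2-fusion system of the McLaughlin group: M22 contains a Sylow 2-subgroup. -/

namespace Cfsg.Agent.McLFus

open Cfsg Cfsg.Agent Cfsg.Agent.Fusion91 Cfsg.Agent.Fusion91.Mathieu Cfsg.Agent.Leech
open scoped Pointwise

theorem permHom_fix (σ : ↥Spor.M22) :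
    ((Leech.permHom ⟨(σ : Equiv.Perm GolayPt), σ.2.1.1⟩ : Co0) : Equiv.Perm leechLattice) ∈
      Spor.McL := by
  set τ : ↥M24 := ⟨(σ : Equiv.Perm GolayPt), σ.2.1.1⟩
  have h0 : (σ : Equiv.Perm GolayPt) none = none := σ.2.1.2
  have h1 : (σ : Equiv.Perm GolayPt) (some 0) = some 0 := σ.2.2
  have e0 : ∀ p, τ.1.symm p = none ↔ p = none := fun p => by
    rw [Equiv.symm_apply_eq, show τ.1 none = none from h0]
  have e1 : ∀ p, τ.1.symm p = some 0 ↔ p = some 0 := fun p => by
    rw [Equiv.symm_apply_eq, show τ.1 (some 0) = some 0 from h1]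
  refine ⟨⟨(Leech.permHom τ).2, ?_⟩, ?_⟩
  · show (Leech.permHom τ) • Spor.leechV = Spor.leechV
    refine Subtype.ext (funext fun p => ?_)
    rw [coe_permHom_smul]
    show Spor.vecV (τ.1.symm p) = Spor.vecV p
    simp only [Spor.vecV, e0]
  · show (Leech.permHom τ) • Spor.leechU = Spor.leechU
    refine Subtype.ext (funext fun p => ?_)
    rw [coe_permHom_smul]
    show Spor.vecU (τ.1.symm p) = Spor.vecU p
    simp only [Spor.vecU, e0, e1]

/-- `M22` inside McL. -/
noncomputable def toMcL : ↥Spor.M22 →* ↥Spor.McL where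
  toFun σ := ⟨_, permHom_fix σ⟩
  map_one' := by
    apply Subtype.ext
    show ((Leech.permHom 1 : Co0) : Equiv.Perm leechLattice) = 1
    rw [map_one]
    rfl
  map_mul' σ τ := by
    apply Subtype.ext
    show ((Leech.permHom (⟨(σ : Equiv.Perm GolayPt), σ.2.1.1⟩ * ⟨(τ : Equiv.Perm GolayPt), τ.2.1.1⟩) :
      Co0) : Equiv.Perm leechLattice) = _
    rw [map_mul]
    rfl

theorem toMcL_injective : Function.Injective toMcL := fun σ τ h => by
  have h0 : Leech.permHom ⟨(σ : Equiv.Perm GolayPt), σ.2.1.1⟩ =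
      Leech.permHom ⟨(τ : Equiv.Perm GolayPt), τ.2.1.1⟩ :=
    Subtype.ext (congrArg Subtype.val h :)
  have h1 := Leech.permHom_injective h0
  exact Subtype.ext (congrArg Subtype.val h1 :)

theorem card_McL : Nat.card ↥Spor.McL = 898128000 := by
  have hd := card_stab_pair codeUnique (v := std32) (w := std48 - std32) sqNorm_std32 (by
      show sqNorm ((std48 - std32 : leechLattice) : GolayPt → ℤ) = 32
      show sqNorm (fun i => -(Spor.vecV i) - Spor.vecU i) = 32
      decide +kernel) (by
      show dotInt Spor.vecU (fun i => -(Spor.vecV i) - Spor.vecU i) = -8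
      decide +kernel)
  rw [← hd]
  have hsub : ∀ g : Co0, ((g : Equiv.Perm leechLattice) ∈ Spor.McL) ↔
      g ∈ MulAction.stabilizer Co0 std32 ⊓ MulAction.stabilizer Co0 (std48 - std32) := by
    intro g
    constructor
    · rintro ⟨⟨-, hv⟩, hu⟩
      have hu' : g • std32 = std32 := hu
      have hv' : g • std48 = std48 := by
        have : g • Spor.leechV = Spor.leechV := hv
        show g • (-Spor.leechV) = -Spor.leechV
        rw [smul_neg', this]
      exact ⟨hu', show g • (std48 - std32) = std48 - std32 by rw [smul_sub', hu', hv']⟩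
    · rintro ⟨hu, hw⟩
      have hu' : g • std32 = std32 := hu
      have hw' : g • (std48 - std32) = std48 - std32 := hw
      rw [smul_sub', hu', sub_left_inj] at hw'
      refine ⟨⟨g.2, ?_⟩, hu⟩
      show g • Spor.leechV = Spor.leechV
      have : g • (-Spor.leechV) = -Spor.leechV := hw'
      rwa [smul_neg', neg_inj] at this
  exact Nat.card_congr
    { toFun := fun g => ⟨⟨g.1, g.2.1.1⟩, (hsub _).mp g.2⟩
      invFun := fun g => ⟨g.1.1, (hsub _).mpr g.2⟩
      left_inv := fun _ => rfl
      right_inv := fun _ => rfl }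

theorem NoClosed_map {H G : Type*} [Group H] [Group G] (f : H →* G) (hf : Function.Injective f)
    {S : Subgroup H} (h : NoClosed S) : NoClosed (S.map f) := by
  intro T hTS hT hcl
  have e : (T.comap f).map f = T := Subgroup.map_comap_eq_self (hTS.trans (Subgroup.map_le_range f S))
  have h1 : T.comap f = S := by
    refine h _ (fun x hx => ?_) (fun hb => hT (by rw [← e, hb, Subgroup.map_bot])) ?_
    · obtain ⟨y, hy, hxy⟩ := hTS (show f x ∈ T from hx)
      exact hf hxy ▸ hy
    · intro x hx a ha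
      show f (a * x * a⁻¹) ∈ T
      rw [map_mul, map_mul, map_inv]
      refine hcl _ hx _ ⟨_, ha, ?_⟩
      rw [map_mul, map_mul, map_inv]
  rw [← e, h1]

theorem mclaughlin_two_fusion_simple {G : Type*} [Group G] [Finite G] (hG : Spor.IsoMcL G)
    (S : Sylow 2 G) : (groupFusionSystem (S : Subgroup G)).IsSimple 2 := by
  classical
  have : Fact (Nat.Prime 2) := ⟨Nat.prime_two⟩
  obtain ⟨e⟩ := hG
  obtain ⟨S₀, hcard, hodd⟩ := exists_sylow_oddNorm Spor.M22 ok22 certM22 sound22 checkM22 rfl
    11 4 5 checkTypesM22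
  have hn : certM22.n = 128 := by decide +kernel
  rw [hn] at hcard
  have hS₀ : IsPGroup 2 S₀ := IsPGroup.of_card (show Nat.card S₀ = 2 ^ 7 from hcard)
  obtain ⟨R₀, hR₀⟩ := hS₀.exists_le_sylow
  have hR₀' : S₀ = (R₀ : Subgroup ↥Spor.M22) := by
    refine Subgroup.eq_of_le_of_card_ge hR₀ ?_
    rw [hcard, R₀.card_eq_multiplicity, Golay.card_M22]
    exact le_of_eq (by decide +kernel)
  obtain ⟨-, hno, -⟩ := of_cert _ _ _ sound22 checkM22 part22 (by decide +kernel) R₀
  let f : ↥Spor.M22 →* G := e.symm.toMonoidHom.comp toMcL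
  have hf : Function.Injective f := e.symm.injective.comp toMcL_injective
  have hnoG : NoClosed (S₀.map f) := NoClosed_map f hf (hR₀' ▸ hno)
  have hoG : OddNormCentral (S₀.map f) := hodd G f hf
  have hSG : IsPGroup 2 (S₀.map f) := hS₀.map f
  obtain ⟨R, hR⟩ := hSG.exists_le_sylow
  have hc : Nat.card (S₀.map f) = 128 :=
    (Nat.card_congr (Subgroup.equivMapOfInjective _ _ hf).toEquiv).symm.trans hcard
  have hRS : S₀.map f = (R : Subgroup G) := by
    refine Subgroup.eq_of_le_of_card_ge hR ?_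
    rw [hc, R.card_eq_multiplicity, Nat.card_congr e.toEquiv, card_McL]
    exact le_of_eq (by decide +kernel)
  obtain ⟨c, hc'⟩ := MulAction.exists_smul_eq G R S
  have hS : (S : Subgroup G) = (S₀.map f).map (MulAut.conj c).toMonoidHom := by
    rw [hRS, ← hc', Sylow.coe_subgroup_smul]
    rfl
  have ho : OddNormCentral (S : Subgroup G) := hS ▸ hoG.smul c
  refine groupFusion_simple_local 2 S ?_ (hS ▸ hnoG.smul c)
    fun g hg => exists_inner_of_oddNormCentral rfl S ho hg
  intro hb
  have h1 : Nat.card (S₀.map f) = Nat.card (S : Subgroup G) := by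
    rw [hS]
    exact Nat.card_congr (Subgroup.equivMapOfInjective _ _ (MulAut.conj c).injective).toEquiv
  rw [hb, Subgroup.card_bot, hc] at h1
  omega

end Cfsg.Agent.McLFus
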