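import Cfsg.Agent.McLFus.Check
import Cfsg.Agent.Fusion91.Mathieu.Sound

set_option autoImplicit false

/-! In any group containing a copy of the certified 2-group, odd elements normalizing it
centralize it. -/

namespace Cfsg.Agent.McLFus

open Cfsg Cfsg.Agent Cfsg.Agent.Fusion91 Cfsg.Agent.Fusion91.Mathieu
open scoped Pointwise

variable (H : Subgroup (Equiv.Perm GolayPt)) (okTab : ℕ → Bool) (C : Cert)

/-- Every injective image of the certified subgroup has odd normalizing elements central. -/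
theorem exists_sylow_oddNorm (hok : ∀ a, okTab a = true → ∃ σ : ↥H, TabN (σ : Equiv.Perm GolayPt) a)
    (hc : check okTab C = true) (hd3 : C.d = 3) (a₇ a₃ a₅ : ℕ) (ht : checkTypes C a₇ a₃ a₅ = true) :
    ∃ S : Subgroup ↥H, Nat.card S = C.n ∧
      ∀ (X : Type*) [Group X] [Finite X] (f : ↥H →* X), Function.Injective f →
        OddNormCentral (S.map f) := by
  classical
  have : Fact (Nat.Prime 2) := ⟨Nat.prime_two⟩
  simp only [check, Bool.and_eq_true] at hc
  obtain ⟨⟨⟨⟨hG, hZ⟩, hSt⟩, hL⟩, hI⟩ := hc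
  simp only [checkGroup, Bool.and_eq_true, decide_eq_true_eq, List.all_eq_true, List.mem_range,
    beq_iff_eq, Bool.or_eq_true] at hG
  obtain ⟨⟨⟨⟨⟨⟨⟨hn, hk⟩, hne2⟩, he0⟩, hgen⟩, hmul⟩, hpar⟩, hord⟩ := hG
  choose gg hgg using fun j : Fin C.k => hok _ (hgen j j.2).2
  set S : Subgroup ↥H := Subgroup.closure (Set.range gg) with hS
  -- the elements
  have helem : ∀ m, m < C.n → ∃ σ : ↥H, σ ∈ S ∧ TabN (σ : Equiv.Perm GolayPt) (C.e m) := by
    intro m
    induction m using Nat.strong_induction_on with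
    | _ m ih =>
    intro hm
    rcases hpar m hm with h0 | h0
    · subst h0
      refine ⟨1, one_mem _, fun i hi => ?_⟩
      rw [OneMemClass.coe_one, Equiv.Perm.one_apply, Golay.idx_pt hi, he0 i hi]
    · obtain ⟨⟨hp, hj⟩, he⟩ := h0
      obtain ⟨σ, hσ, hσt⟩ := ih _ hp (hp.trans hm)
      refine ⟨σ * gg ⟨_, hj⟩, mul_mem hσ (Subgroup.subset_closure ⟨_, rfl⟩), ?_⟩
      have := hσt.of_isComp (hgg ⟨_, hj⟩) ((hmul _ (hp.trans hm)).2 _ hj).2
      rwa [he] at this
  choose el helS helT using fun m : Fin C.n => helem m m.2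
  have hone : el ⟨0, hn⟩ = 1 := Subtype.ext (TabN.ext (helT _) (fun i hi => by
    rw [OneMemClass.coe_one, Equiv.Perm.one_apply, Golay.idx_pt hi, he0 i hi] : TabN ((1 : ↥H) : Equiv.Perm GolayPt) (C.e 0)) fun _ _ => rfl)
  have hrmul : ∀ (m : Fin C.n) (j : Fin C.k),
      el ⟨C.mul m j, ((hmul m m.2).2 j j.2).1⟩ = el m * gg j := fun m j =>
    Subtype.ext (TabN.ext (helT _) ((helT m).of_isComp (hgg j) ((hmul m m.2).2 j j.2).2) fun _ _ => rfl)
  have hgel : ∀ j : Fin C.k, el ⟨C.g j, (hgen j j.2).1⟩ = gg j := fun j =>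
    Subtype.ext (TabN.ext (helT _) (hgg j) fun _ _ => rfl)
  have hinj : Function.Injective el := by
    let o : Fin C.n → Fin C.n := fun i => ⟨get2 C.ord i, (hord i i.2).1⟩
    have hstep : ∀ i, (hi : i + 1 < C.n) → C.e (get2 C.ord i) < C.e (get2 C.ord (i + 1)) := by
      intro i hi
      rcases (hord i (Nat.lt_of_succ_lt hi)).2 with h | h
      · omega
      · exact h
    have hmono : ∀ i j, i < j → j < C.n → C.e (get2 C.ord i) < C.e (get2 C.ord j) := by
      intro i j hij
      induction hij with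
      | refl => exact hstep i
      | step _ ih => exact fun hj => (ih (Nat.lt_of_succ_lt hj)).trans (hstep _ hj)
    have hcomp : Function.Injective fun i => C.e (o i) := by
      intro a b hab
      rcases lt_trichotomy (a : ℕ) b with h | h | h
      · exact absurd hab (hmono a b h b.2).ne
      · exact Fin.ext h
      · exact absurd hab (hmono b a h a.2).ne'
    have hob : Function.Bijective o :=
      Finite.injective_iff_bijective.mp fun a b hab => hcomp (congrArg (fun x : Fin C.n => C.e x) hab)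
    intro a b hab
    obtain ⟨a', rfl⟩ := hob.2 a
    obtain ⟨b', rfl⟩ := hob.2 b
    refine congrArg o (hcomp ?_)
    refine eq_of_dig 24 _ _ (hmul _ (o a').2).1 (hmul _ (o b').2).1 fun i hi => ?_
    rw [← helT (o a') i hi, ← helT (o b') i hi, hab]
  have hmem : ∀ x ∈ S, ∃ m, el m = x := by
    intro x hx
    rw [← Subgroup.mem_toSubmonoid, hS, Subgroup.closure_toSubmonoid_of_finite] at hx
    induction hx using Submonoid.closure_induction_right with
    | one => exact ⟨_, hone⟩
    | mul_right a _ b hb ih =>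
      obtain ⟨m, rfl⟩ := ih
      obtain ⟨j, rfl⟩ := hb
      exact ⟨_, hrmul m j⟩
  have hbij : Function.Bijective fun m => (⟨el m, helS m⟩ : S) :=
    ⟨fun a b h => hinj (congrArg Subtype.val h), fun ⟨x, hx⟩ => by
      obtain ⟨m, rfl⟩ := hmem x hx; exact ⟨m, rfl⟩⟩
  have hcard : Nat.card S = C.n := by
    rw [← Nat.card_congr (Equiv.ofBijective _ hbij), Nat.card_fin]
  have hSp : IsPGroup 2 S := IsPGroup.of_card (hcard.trans hne2)
  refine ⟨S, hcard, ?_⟩
  intro X _ _ f hf g hg hodd x hx
  simp only [checkLabels, Bool.and_eq_true, decide_eq_true_eq, List.all_eq_true, List.mem_range,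
    beq_iff_eq] at hL
  obtain ⟨⟨hl0, hlab⟩, hks⟩ := hL
  let L : Fin C.n → ℕ := fun m => C.l m
  have hadd : ∀ (m' m m'' : Fin C.n), el m'' = el m * el m' → L m'' = L m ^^^ L m' := by
    rintro ⟨m', hm'⟩
    induction m' using Nat.strong_induction_on with
    | _ m' ih =>
    intro m m'' he
    rcases hpar m' hm' with h0 | h0
    · subst h0
      rw [hone, mul_one] at he
      rw [hinj he]
      show L m = L m ^^^ C.l 0
      rw [hl0, Nat.xor_zero]
    · obtain ⟨⟨hp, hj⟩, hpe⟩ := h0
      obtain ⟨q, hq⟩ := hmem _ (mul_mem (helS m) (helS ⟨_, hp.trans hm'⟩))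
      have h1 := ih _ hp (hp.trans hm') m q hq
      have h2 : (⟨m', hm'⟩ : Fin C.n) = ⟨C.mul (get2 C.parp m') (get2 C.parj m'), hpe.symm ▸ hm'⟩ :=
        Fin.ext hpe.symm
      have h3 : m'' = ⟨C.mul q (get2 C.parj m'), ((hmul q q.2).2 _ hj).1⟩ := by
        apply hinj
        rw [he, h2, hrmul ⟨_, hp.trans hm'⟩ ⟨_, hj⟩, hrmul q ⟨_, hj⟩, hq, mul_assoc]
      rw [h3, h2]
      show C.l (C.mul q _) = L m ^^^ C.l (C.mul _ _)
      rw [(hlab q q.2).2 _ hj, (hlab _ (hp.trans hm')).2 _ hj]
      show L q ^^^ _ = _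
      rw [h1, Nat.xor_assoc]
  set Q : Subgroup ↥H := Subgroup.closure {y | ∃ a ∈ S, y = a * a} with hQ
  have hQle : Q ≤ (frattini S).map S.subtype := by
    rw [hQ, Subgroup.closure_le]
    rintro _ ⟨a, ha, rfl⟩
    exact ⟨_, PGroup.pow_mem_frattini hSp ⟨a, ha⟩, by simp [pow_two]⟩
  have hQS : Q ≤ S := hQle.trans (Subgroup.map_subtype_le _)
  have hQl : ∀ m, el m ∈ Q → L m = 0 := by
    intro m hm
    have key : ∀ y ∈ Q, ∀ m, el m = y → L m = 0 := by
      intro y hy
      induction hy using Subgroup.closure_induction with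
      | mem y hy =>
        obtain ⟨a, ha, rfl⟩ := hy
        intro m he
        obtain ⟨q, rfl⟩ := hmem a ha
        rw [hadd q q m he, Nat.xor_self]
      | one =>
        intro m he
        rw [hinj (he.trans hone.symm)]
        exact hl0
      | mul a b ha hb iha ihb =>
        intro m he
        obtain ⟨qa, rfl⟩ := hmem a (hQS ha)
        obtain ⟨qb, rfl⟩ := hmem b (hQS hb)
        rw [hadd qb qa m he, iha qa rfl, ihb qb rfl, Nat.xor_self]
      | inv a ha iha =>
        intro m he
        obtain ⟨qa, rfl⟩ := hmem a (hQS ha)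
        have h := hadd qa m ⟨0, hn⟩ (by rw [he, inv_mul_cancel, hone])
        rw [show L ⟨0, hn⟩ = 0 from hl0, iha qa rfl, Nat.xor_zero] at h
        exact h.symm
    exact key _ hm m rfl
  have hlQ : ∀ m : Fin C.n, L m = 0 → el m ∈ Q := by
    have key : ∀ (l : List (ℕ × ℕ × ℕ)) (R : List ℕ),
        (∀ r ∈ R, ∃ h : r < C.n, el ⟨r, h⟩ ∈ Q) → runSquares C l R = true →
          ∀ m : Fin C.n, L m = 0 → el m ∈ Q := by
      intro l
      induction l with
      | nil =>
        intro R hR h m hm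
        simp only [runSquares, List.all_eq_true, List.mem_range, List.contains_iff_mem,
          Bool.or_eq_true, bne_iff_ne] at h
        obtain ⟨h', hh⟩ := hR _ ((h m m.2).resolve_left (fun h => h hm))
        exact hh
      | cons a t ih =>
        obtain ⟨a, s, r⟩ := a
        intro R hR h
        simp only [runSquares, Bool.and_eq_true, decide_eq_true_eq, List.contains_iff_mem,
          List.all_eq_true, List.mem_range, beq_iff_eq] at h
        obtain ⟨⟨⟨⟨ha, hs⟩, hr⟩, heq⟩, hrest⟩ := h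
        obtain ⟨han, haQ⟩ := hR a ha
        refine ih _ ?_ hrest
        intro r' hr'
        rcases List.mem_cons.mp hr' with rfl | hr'
        swap
        · exact hR r' hr'
        refine ⟨hr, ?_⟩
        have : el ⟨r', hr⟩ = el ⟨a, han⟩ * (el ⟨s, hs⟩ * el ⟨s, hs⟩) := by
          apply Subtype.ext
          refine Equiv.ext fun p => Golay.idx_injective ?_
          rw [← Golay.pt_idx p]
          have hi := Golay.idx_lt p
          show _ = Golay.idx ((el ⟨a, han⟩ : Equiv.Perm GolayPt)
            (((el ⟨s, hs⟩ : Equiv.Perm GolayPt) * (el ⟨s, hs⟩ : Equiv.Perm GolayPt)) _))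
          rw [helT ⟨r', hr⟩ _ hi, heq _ hi, ← helT ⟨a, han⟩ _ ((helT ⟨s, hs⟩).lt ((helT ⟨s, hs⟩).lt hi)),
            ← (helT ⟨s, hs⟩).mul_apply (helT ⟨s, hs⟩) hi, Golay.pt_idx]
        rw [this]
        exact mul_mem haQ (Subgroup.subset_closure ⟨_, helS _, rfl⟩)
    exact key C.ksteps [0] (fun r hr => by
      obtain rfl := List.mem_singleton.mp hr
      exact ⟨hn, hone ▸ one_mem Q⟩) hks
  have hlabel : ∀ m m' : Fin C.n, L m = L m' ↔ (el m)⁻¹ * el m' ∈ Q := by
    intro m m'
    obtain ⟨q, hq⟩ := hmem _ (mul_mem (inv_mem (helS m)) (helS m'))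
    have h1 := hadd q m m' (by rw [hq, mul_inv_cancel_left])
    constructor
    · intro h
      rw [← hq]
      refine hlQ q ?_
      rw [h] at h1
      have h2 : L m' ^^^ L m' = L m' ^^^ (L m' ^^^ L q) := congrArg (L m' ^^^ ·) h1
      rw [Nat.xor_self, ← Nat.xor_assoc, Nat.xor_self, Nat.zero_xor] at h2
      exact h2.symm
    · intro h
      rw [h1, hQl q (hq ▸ h), Nat.xor_zero]
  -- conjugation by `g`
  have hgS : ∀ a, a ∈ S.map f ↔ g * a * g⁻¹ ∈ S.map f := Subgroup.mem_normalizer_iff.mp hg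
  have hex : ∀ m : Fin C.n, ∃ m' : Fin C.n, f (el m') = g * f (el m) * g⁻¹ := by
    intro m
    obtain ⟨y, hy, hye⟩ := (hgS (f (el m))).mp ⟨_, helS m, rfl⟩
    obtain ⟨m', rfl⟩ := hmem y hy
    exact ⟨m', hye⟩
  choose π hπ using hex
  have hπi : Function.Injective π := fun a b h => hinj (hf (by
    have e := (hπ a).symm.trans ((congrArg (fun m => f (el m)) h).trans (hπ b))
    simpa using e))
  let πe := Equiv.ofBijective π (Finite.injective_iff_bijective.mp hπi)
  have hπh : ∀ m k r : Fin C.n, el r = el m * el k → el (π r) = el (π m) * el (π k) := by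
    intro m k r h
    apply hf
    rw [map_mul, hπ, hπ, hπ, h, map_mul]
    group
  have hπ1 : ∀ m : Fin C.n, el m = 1 ↔ el (π m) = 1 := by
    intro m
    constructor
    · intro h
      apply hf
      rw [hπ, h, map_one, mul_one, mul_inv_cancel]
    · intro h
      apply hf
      have e := hπ m
      rw [h, map_one] at e
      rw [map_one]
      calc f (el m) = g⁻¹ * (g * f (el m) * g⁻¹) * g := by group
        _ = 1 := by rw [← e]; group
  have four_iff : ∀ m : Fin C.n, fourOne C m = true ↔ el m ^ 4 = 1 := by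
    intro m
    simp only [fourOne, List.all_eq_true, List.mem_range, beq_iff_eq]
    constructor
    · intro h
      apply Subtype.ext
      refine Equiv.ext fun p => Golay.idx_injective ?_
      rw [← Golay.pt_idx p]
      have hi := Golay.idx_lt p
      show Golay.idx (((el m : Equiv.Perm GolayPt) ^ 4) _) = _
      simp only [show (4 : ℕ) = 1 + 1 + 1 + 1 from rfl, pow_add, pow_one, Equiv.Perm.mul_apply]
      rw [(helT m).apply, (helT m).apply, (helT m).apply, (helT m).apply, Golay.idx_pt hi]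
      simp only [Golay.idx_pt, (helT m).lt hi, (helT m).lt ((helT m).lt hi),
        (helT m).lt ((helT m).lt ((helT m).lt hi)),
        (helT m).lt ((helT m).lt ((helT m).lt ((helT m).lt hi))), OneMemClass.coe_one,
        Equiv.Perm.one_apply]
      simpa [Golay.idx_pt hi] using h _ hi
    · intro h i hi
      have e := congrArg (fun y : ↥H => Golay.idx ((y : Equiv.Perm GolayPt) (Golay.pt i))) h
      simp only [Subgroup.coe_pow, OneMemClass.coe_one, Equiv.Perm.one_apply,
        show (4 : ℕ) = 1 + 1 + 1 + 1 from rfl, pow_add, pow_one, Subgroup.coe_mul, Equiv.Perm.mul_apply] at e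
      rw [(helT m).apply, (helT m).apply, (helT m).apply, (helT m).apply] at e
      simpa [Golay.idx_pt, hi, (helT m).lt hi, (helT m).lt ((helT m).lt hi),
        (helT m).lt ((helT m).lt ((helT m).lt hi)),
        (helT m).lt ((helT m).lt ((helT m).lt ((helT m).lt hi)))] using e
  have comm_iff : ∀ m k : Fin C.n, commB C m k = true ↔ el m * el k = el k * el m := by
    intro m k
    simp only [commB, List.all_eq_true, List.mem_range, beq_iff_eq]
    constructor
    · intro h
      apply Subtype.ext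
      refine Equiv.ext fun p => Golay.idx_injective ?_
      rw [← Golay.pt_idx p]
      have hi := Golay.idx_lt p
      show Golay.idx (((el m : Equiv.Perm GolayPt) * el k) _) = Golay.idx (((el k : Equiv.Perm GolayPt) * el m) _)
      rw [(helT m).mul_apply (helT k) hi, (helT k).mul_apply (helT m) hi, h _ hi]
    · intro h i hi
      rw [← (helT m).mul_apply (helT k) hi, ← (helT k).mul_apply (helT m) hi]
      exact congrArg (fun y : ↥H => Golay.idx ((y : Equiv.Perm GolayPt) (Golay.pt i))) h
  have four_pres : ∀ m : Fin C.n, fourOne C (π m) = fourOne C m := by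
    intro m
    rw [Bool.eq_iff_iff, four_iff, four_iff, ← hf.eq_iff, ← hf.eq_iff (b := (1 : ↥H)), map_pow,
      map_pow, hπ, conj_pow, map_one, mul_inv_eq_one, mul_eq_left]
  have comm_pres : ∀ m k : Fin C.n, commB C (π m) (π k) = commB C m k := by
    intro m k
    rw [Bool.eq_iff_iff, comm_iff, comm_iff, ← hf.eq_iff, ← hf.eq_iff (a := el m * el k)]
    simp only [map_mul, hπ]
    constructor
    · intro h
      have := congrArg (fun y => g⁻¹ * y * g) h
      simpa [mul_assoc] using this
    · intro h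
      calc g * f (el m) * g⁻¹ * (g * f (el k) * g⁻¹) = g * (f (el m) * f (el k)) * g⁻¹ := by group
        _ = g * (f (el k) * f (el m)) * g⁻¹ := by rw [h]
        _ = _ := by group
  have typeB_pres : ∀ m : Fin C.n, typeB C (π m) = typeB C m := by
    intro m
    have : ∑ k : Fin C.n, (if commB C (π m) k then 1 else 0) =
        ∑ k : Fin C.n, (if commB C m k then 1 else 0) := by
      rw [← Equiv.sum_comp πe]
      exact Finset.sum_congr rfl fun k _ => by
        show (if commB C (π m) (π k) then 1 else 0) = _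
        rw [comm_pres]
    simp only [typeB, sum_range_map, four_pres, this]
  simp only [checkTypes, Bool.and_eq_true, decide_eq_true_eq, List.all_eq_true, List.mem_range,
    beq_iff_eq, Bool.or_eq_true, Bool.not_eq_eq_eq_not, Bool.not_true] at ht
  obtain ⟨⟨⟨hall, ⟨ha, ha'⟩, hal⟩, ⟨hb, hb'⟩, hbl⟩, ⟨hc5, hc5'⟩, hcl⟩ := ht
  have lab7 : ∀ m : Fin C.n, fourOne C m = false → L m = 7 := fun m h =>
    ((hall m m.2).1).resolve_left (by simp [h])
  have lab35 : ∀ m : Fin C.n, typeB C m = true → L m = 3 ∨ L m = 5 := fun m h =>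
    (or_assoc.mp (hall m m.2).2).resolve_left (by simp [h])
  -- labels are permuted
  have hQconj : ∀ q : Fin C.n, el q ∈ Q ↔ el (π q) ∈ Q := by
    have key : ∀ y ∈ Q, ∀ q : Fin C.n, el q = y → el (π q) ∈ Q := by
      intro y hy
      induction hy using Subgroup.closure_induction with
      | mem y hy =>
        obtain ⟨b, hb, rfl⟩ := hy
        intro q he
        obtain ⟨k, rfl⟩ := hmem b hb
        exact Subgroup.subset_closure ⟨_, helS (π k), hπh k k q he⟩
      | one => intro q he; rw [(hπ1 q).mp he]; exact one_mem Q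
      | mul a b ha hb iha ihb =>
        intro q he
        obtain ⟨qa, rfl⟩ := hmem a (hQS ha)
        obtain ⟨qb, rfl⟩ := hmem b (hQS hb)
        rw [hπh qa qb q he]
        exact mul_mem (iha qa rfl) (ihb qb rfl)
      | inv a ha iha =>
        intro q he
        obtain ⟨qa, rfl⟩ := hmem a (hQS ha)
        have : el (π qa) * el (π q) = 1 := by
          rw [← hπh qa q ⟨0, hn⟩ (by rw [hone, he, mul_inv_cancel])]
          exact (hπ1 _).mp hone
        rw [show el (π q) = (el (π qa))⁻¹ from (inv_eq_of_mul_eq_one_right this).symm]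
        exact inv_mem (iha qa rfl)
    have hbij' : Function.Bijective π := Finite.injective_iff_bijective.mp hπi
    intro q
    refine ⟨fun h => key _ h q rfl, fun h => ?_⟩
    -- `π` maps the finite set of indices of `Q` into itself injectively
    have himg : π '' {q | el q ∈ Q} = {q | el q ∈ Q} := by
      refine Set.eq_of_subset_of_ncard_le ?_ ?_ (Set.toFinite _)
      · rintro _ ⟨k, hk, rfl⟩; exact key _ hk k rfl
      · rw [Set.ncard_image_of_injective _ hπi]
    obtain ⟨k, hk, hk'⟩ := himg.ge (show π q ∈ {q | el q ∈ Q} from h)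
    exact hπi hk' ▸ hk
  have hπl : ∀ m k : Fin C.n, L (π m) = L (π k) ↔ L m = L k := by
    intro m k
    obtain ⟨q, hq⟩ := hmem _ (mul_mem (inv_mem (helS m)) (helS k))
    have e : el (π k) = el (π m) * el (π q) := hπh m q k (by rw [hq, mul_inv_cancel_left])
    rw [hlabel, hlabel, ← hq, e, inv_mul_cancel_left, ← hQconj]
  have h2π : ∀ m : Fin C.n, (L m = 7 → L (π (π m)) = 7) ∧ (L m = 3 → L (π (π m)) = 3) ∧
      (L m = 5 → L (π (π m)) = 5) := by
    let A : Fin C.n := ⟨a₇, ha⟩
    let B : Fin C.n := ⟨a₃, hb⟩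
    let D : Fin C.n := ⟨a₅, hc5⟩
    have e7 : L (π (π A)) = L A := by
      rw [lab7 (π (π A)) (by rw [four_pres, four_pres]; exact ha')]
      exact hal.symm
    have hBD : L B ≠ L D := by
      show C.l a₃ ≠ C.l a₅
      rw [hbl, hcl]; norm_num
    have hB : L B = 3 := hbl
    have hD : L D = 5 := hcl
    have pB : ∀ m : Fin C.n, typeB C m = true → typeB C (π m) = true := fun m h => by
      rw [typeB_pres]; exact h
    have b1 := lab35 _ (pB B hb')
    have d1 := lab35 _ (pB D hc5')
    have b2 := lab35 _ (pB _ (pB B hb'))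
    have d2 := lab35 _ (pB _ (pB D hc5'))
    have n1 : L (π B) ≠ L (π D) := fun h => hBD ((hπl _ _).mp h)
    have sB : L (π B) = L B → L (π (π B)) = L (π B) := fun h => (hπl _ _).mpr h
    have sB' : L (π B) = L D → L (π (π B)) = L (π D) := fun h => (hπl _ _).mpr h
    have sD : L (π D) = L D → L (π (π D)) = L (π D) := fun h => (hπl _ _).mpr h
    have sD' : L (π D) = L B → L (π (π D)) = L (π B) := fun h => (hπl _ _).mpr h
    have key2 : L (π (π B)) = 3 ∧ L (π (π D)) = 5 := by
      rcases b1 with h | h <;> rcases d1 with h' | h'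
      · omega
      · exact ⟨(sB (h.trans hB.symm)).trans h, (sD (h'.trans hD.symm)).trans h'⟩
      · exact ⟨(sB' (h.trans hD.symm)).trans h', (sD' (h'.trans hB.symm)).trans h⟩
      · omega
    intro m
    refine ⟨fun h => ?_, fun h => ?_, fun h => ?_⟩
    · rw [(hπl _ _).mpr ((hπl m A).mpr (h.trans hal.symm)), e7]; exact hal
    · rw [(hπl _ _).mpr ((hπl m B).mpr (h.trans hB.symm))]; exact key2.1
    · rw [(hπl _ _).mpr ((hπl m D).mpr (h.trans hD.symm))]; exact key2.2
  have hspan : ∀ m : Fin C.n, L (π (π m)) = L m := by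
    intro m
    have hlin : ∀ u v r : Fin C.n, el r = el u * el v → L (π (π r)) = L (π (π u)) ^^^ L (π (π v)) :=
      fun u v r h => hadd _ _ _ (hπh _ _ _ (hπh u v r h))
    obtain ⟨r, hr⟩ := hmem _ (mul_mem (helS ⟨a₃, hb⟩) (helS ⟨a₅, hc5⟩))
    have hr6 : L r = 6 ∧ L (π (π r)) = 6 := by
      constructor
      · rw [hadd _ _ r hr]; show C.l a₃ ^^^ C.l a₅ = 6; rw [hbl, hcl]; rfl
      · rw [hlin _ _ r hr, (h2π _).2.1 hbl, (h2π _).2.2 hcl]; rfl
    have h6 : ∀ k : Fin C.n, L k = 6 → L (π (π k)) = 6 := fun k hk => by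
      rw [(hπl _ _).mpr ((hπl k r).mpr (hk.trans hr6.1.symm))]; exact hr6.2
    have hlt : L m < 2 ^ C.d := (hlab _ m.2).1
    have d1 : ∀ (u v : Fin C.n) (p q : ℕ), L u = p → L v = q → L (π (π u)) = p → L (π (π v)) = q →
        L m = p ^^^ q → L (π (π m)) = L m := by
      intro u v p q hu hv hu' hv' hm
      obtain ⟨w, hw⟩ := hmem _ (mul_mem (helS u) (helS v))
      have e : L w = L m := by rw [hadd _ _ w hw, hu, hv, hm]
      rw [← (hπl _ _).mpr ((hπl w m).mpr e), hlin _ _ w hw, hu', hv', hm]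
    rw [hd3] at hlt
    have lA : L ⟨a₇, ha⟩ = 7 := hal
    have lB : L ⟨a₃, hb⟩ = 3 := hbl
    have lD : L ⟨a₅, hc5⟩ = 5 := hcl
    interval_cases hLm : L m
    · exact d1 _ _ 7 7 lA lA ((h2π _).1 lA) ((h2π _).1 lA) (by rfl)
    · exact d1 _ _ 7 6 lA hr6.1 ((h2π _).1 lA) hr6.2 (by rfl)
    · exact d1 _ _ 7 5 lA lD ((h2π _).1 lA) ((h2π _).2.2 lD) (by rfl)
    · exact (h2π m).2.1 hLm
    · exact d1 _ _ 7 3 lA lB ((h2π _).1 lA) ((h2π _).2.1 lB) (by rfl)
    · exact (h2π m).2.2 hLm
    · exact h6 m hLm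
    · exact (h2π m).1 hLm
  have hSp' : IsPGroup 2 (S.map f) := hSp.map f
  have hgg2 : ∀ a ∈ S.map f, g * g * a * (g * g)⁻¹ * a⁻¹ ∈
      (frattini (S.map f)).map (S.map f).subtype := by
    rintro _ ⟨a, ha, rfl⟩
    obtain ⟨m, rfl⟩ := hmem a ha
    obtain ⟨q, hq⟩ := hmem _ (mul_mem (helS (π (π m))) (inv_mem (helS m)))
    have hqQ : el q ∈ Q := by
      refine hlQ q ?_
      have h := hadd m q (π (π m)) (by rw [hq, inv_mul_cancel_right])
      rw [hspan] at h
      have h2 : L q ^^^ L m ^^^ L m = L m ^^^ L m := congrArg (· ^^^ L m) h.symm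
      rw [Nat.xor_assoc, Nat.xor_self, Nat.xor_zero] at h2
      exact h2
    have e : g * g * f (el m) * (g * g)⁻¹ * (f (el m))⁻¹ = f (el q) := by
      rw [hq, map_mul, map_inv, hπ, hπ]; group
    rw [e]
    have hle : Q.map f ≤ (frattini (S.map f)).map (S.map f).subtype := by
      rw [hQ, MonoidHom.map_closure, Subgroup.closure_le]
      rintro _ ⟨_, ⟨b, hb, rfl⟩, rfl⟩
      exact ⟨_, PGroup.pow_mem_frattini hSp' ⟨f b, b, hb, rfl⟩, by simp [pow_two]⟩
    exact hle ⟨_, hqQ, rfl⟩
  have hn2 : g * g ∈ Subgroup.normalizer (S.map f : Set X) := mul_mem hg hg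
  set A := Subgroup.zpowers (g * g)
  have hgA : g ∈ A := by
    obtain ⟨j, hj⟩ := hodd
    refine ⟨((j + 1 : ℕ) : ℤ), ?_⟩
    simp only [zpow_natCast]
    rw [← pow_two, ← pow_mul, show 2 * (j + 1) = orderOf g + 1 by omega, pow_succ,
      pow_orderOf_eq_one, one_mul]
  have hcent : A ≤ Subgroup.centralizer (S.map f : Set X) := by
    refine Coprime.le_centralizer_of_frattini A (S.map f) (Subgroup.zpowers_le.mpr hn2) ?_ ?_
    · rw [Nat.card_zpowers]
      obtain ⟨b, hb⟩ := IsPGroup.iff_card.mp (hSp'.to_subgroup (frattini ↥(S.map f)))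
      rw [hb]
      refine Nat.Coprime.pow_right _ (Nat.coprime_two_right.mpr ?_)
      have : orderOf (g * g) ∣ orderOf g := by rw [← pow_two]; exact orderOf_pow_dvd 2
      exact hodd.of_dvd_nat this
    · intro a ha
      rw [← mem_powers_iff_mem_zpowers] at ha
      obtain ⟨i, rfl⟩ := ha
      simp only
      induction i with
      | zero => intro k _; simp
      | succ i ih =>
        intro k hk
        have hk' : (g * g) ^ i * k * ((g * g) ^ i)⁻¹ ∈ S.map f :=
          (Subgroup.mem_normalizer_iff.mp (pow_mem hn2 i) k).mp hk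
        have := mul_mem (hgg2 _ hk') (ih k hk)
        convert this using 1
        rw [pow_succ']; generalize g * g = b
        group
  exact (Subgroup.mem_centralizer_iff.mp (hcent hgA) x hx).symm

end Cfsg.Agent.McLFus
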